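import Groth.Prelude.Def_W4c3severiratdpLat
import Mathlib.Algebra.Module.Equiv.Basic
import Mathlib.Algebra.Order.Chebyshev
import Mathlib.Data.List.OfFn
import Mathlib.Tactic.Ring
import Mathlib.Tactic.Linarith
import Mathlib.Tactic.IntervalCases

/-!
Computational support for the lattice `DP δ`: vectors as lists, reflections in roots and
descent of a Weyl-invariant finite set of vectors to representatives.
-/

set_option autoImplicit false

namespace Groth.Agent.DPLat

open W4c3severiratdp

abbrev V := List ℤ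

def dot : V → V → ℤ
  | a :: v, b :: w => a * b + dot v w
  | _, _ => 0

def formL : V → V → ℤ
  | a :: v, b :: w => a * b - dot v w
  | _, _ => 0

def addMul (t : ℤ) : V → V → V
  | x :: v, y :: w => (x + t * y) :: addMul t v w
  | _, _ => []

def reflL (r v : V) : V := addMul (formL r v) v r

def canonL (δ : ℕ) : V := -3 :: List.replicate δ (-1)

lemma dot_ofFn : ∀ {n : ℕ} (v w : Fin n → ℤ),
    dot (List.ofFn v) (List.ofFn w) = ∑ i, v i * w i
  | 0, v, w => by simp [dot]
  | n + 1, v, w => by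
      rw [List.ofFn_succ, List.ofFn_succ, dot, dot_ofFn, Fin.sum_univ_succ]

lemma formL_ofFn {δ : ℕ} (v w : DP δ) : formL (List.ofFn v) (List.ofFn w) = form v w := by
  rw [List.ofFn_succ, List.ofFn_succ, formL, dot_ofFn]
  rfl

lemma addMul_ofFn : ∀ {n : ℕ} (t : ℤ) (v w : Fin n → ℤ),
    addMul t (List.ofFn v) (List.ofFn w) = List.ofFn (v + t • w)
  | 0, t, v, w => by simp [addMul]
  | n + 1, t, v, w => by
      rw [List.ofFn_succ, List.ofFn_succ, addMul, addMul_ofFn]
      conv_rhs => rw [List.ofFn_succ]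
      rfl

lemma canonL_eq (δ : ℕ) : List.ofFn (canon δ) = canonL δ := by
  rw [List.ofFn_succ]
  simp [canon, canonL, List.ofFn_const]

lemma form_comm {δ : ℕ} (v w : DP δ) : form v w = form w v := by
  simp only [form, mul_comm]

lemma form_add_right {δ : ℕ} (v w x : DP δ) : form v (w + x) = form v w + form v x := by
  simp only [form, Pi.add_apply, mul_add, Finset.sum_add_distrib]
  ring

lemma form_smul_right {δ : ℕ} (t : ℤ) (v w : DP δ) : form v (t • w) = t * form v w := by
  simp only [form, Pi.smul_apply, smul_eq_mul, mul_left_comm, ← Finset.mul_sum]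
  ring

lemma form_add_left {δ : ℕ} (v w x : DP δ) : form (v + w) x = form v x + form w x := by
  rw [form_comm, form_add_right, form_comm x, form_comm x]

lemma form_smul_left {δ : ℕ} (t : ℤ) (v w : DP δ) : form (t • v) w = t * form v w := by
  rw [form_comm, form_smul_right, form_comm w]

/-- The vector with a given list of coordinates. -/
def ofL (δ : ℕ) (r : V) : DP δ := fun i => r.getD i.val 0

lemma ofFn_ofL {δ : ℕ} {r : V} (h : r.length = δ + 1) : List.ofFn (ofL δ r) = r := by
  apply List.ext_getElem (by simp [h])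
  intro i hi _
  simp at hi
  rw [List.getElem_ofFn]
  simp [ofL, List.getD_eq_getElem?_getD, show i < r.length by omega]

/-- The reflection in a vector of square `-2`. -/
def refl {δ : ℕ} (r : DP δ) (hr : form r r = -2) : DP δ ≃ₗ[ℤ] DP δ :=
  LinearEquiv.ofLinearMap
    { toFun := fun v => v + form r v • r
      map_add' := fun v w => by rw [form_add_right, add_smul, add_add_add_comm]
      map_smul' := fun t v => by rw [form_smul_right, mul_smul, RingHom.id_apply, smul_add] }
    { toFun := fun v => v + form r v • r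
      map_add' := fun v w => by rw [form_add_right, add_smul, add_add_add_comm]
      map_smul' := fun t v => by rw [form_smul_right, mul_smul, RingHom.id_apply, smul_add] }
    (by
      refine LinearMap.ext fun v => ?_
      change v + form r v • r + form r (v + form r v • r) • r = v
      rw [form_add_right, form_smul_right, hr, add_assoc, ← add_smul,
        show form r v + (form r v + form r v * (-2)) = 0 by ring, zero_smul, add_zero])
    (by
      refine LinearMap.ext fun v => ?_
      change v + form r v • r + form r (v + form r v • r) • r = v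
      rw [form_add_right, form_smul_right, hr, add_assoc, ← add_smul,
        show form r v + (form r v + form r v * (-2)) = 0 by ring, zero_smul, add_zero])

lemma refl_apply {δ : ℕ} (r : DP δ) (hr : form r r = -2) (v : DP δ) :
    refl r hr v = v + form r v • r := rfl

lemma isWeyl_refl {δ : ℕ} (r : DP δ) (hr : form r r = -2) (hK : form r (canon δ) = 0) :
    IsWeyl (refl r hr) := by
  refine ⟨fun v w => ?_, by rw [refl_apply, hK, zero_smul, add_zero]⟩
  simp only [refl_apply, form_add_left, form_add_right, form_smul_left, form_smul_right, hr,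
    form_comm v r]
  ring

lemma isWeyl_one (δ : ℕ) : IsWeyl (LinearEquiv.refl ℤ (DP δ)) := ⟨fun _ _ => rfl, rfl⟩

lemma IsWeyl.trans {δ : ℕ} {g h : DP δ ≃ₗ[ℤ] DP δ} (hg : IsWeyl g) (hh : IsWeyl h) :
    IsWeyl (g.trans h) :=
  ⟨fun v w => by simp [hh.1, hg.1], by simp [hg.2, hh.2]⟩

lemma IsWeyl.symm {δ : ℕ} {g : DP δ ≃ₗ[ℤ] DP δ} (hg : IsWeyl g) : IsWeyl g.symm := by
  refine ⟨fun v w => ?_, g.injective (by rw [g.apply_symm_apply, hg.2])⟩
  have := hg.1 (g.symm v) (g.symm w)
  simpa using this.symm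

lemma IsWeyl.isConic {δ : ℕ} {g : DP δ ≃ₗ[ℤ] DP δ} (hg : IsWeyl g) {v : DP δ}
    (hv : IsConic v) : IsConic (g v) := by
  have := hg.1 (canon δ) v
  rw [hg.2] at this
  exact ⟨(hg.1 v v).trans hv.1, this.trans hv.2⟩

lemma IsWeyl.isExc {δ : ℕ} {g : DP δ ≃ₗ[ℤ] DP δ} (hg : IsWeyl g) {v : DP δ}
    (hv : IsExc v) : IsExc (g v) := by
  have := hg.1 (canon δ) v
  rw [hg.2] at this
  exact ⟨(hg.1 v v).trans hv.1, this.trans hv.2⟩

/-- `R` consists of roots. -/
def rootsOK (δ : ℕ) (R : List V) : Bool :=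
  R.all fun r => (r.length == δ + 1) && (formL r r == -2) && (formL r (canonL δ) == 0)

/-- Apply a word of reflections. -/
def app (ws : List V) (x : V) : V := ws.foldl (fun x r => reflL r x) x

/-- `g` fixes everything orthogonal to all of `R`. -/
def Fixes {δ : ℕ} (g : DP δ ≃ₗ[ℤ] DP δ) (R : List V) : Prop :=
  ∀ x : DP δ, (∀ r ∈ R, formL r (List.ofFn x) = 0) → g x = x

lemma refl_root {δ : ℕ} {R : List V} (hR : rootsOK δ R = true) {r : V} (hr : r ∈ R) :
    ∃ g : DP δ ≃ₗ[ℤ] DP δ, IsWeyl g ∧ Fixes g R ∧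
      ∀ x, List.ofFn (g x) = reflL r (List.ofFn x) := by
  have h := List.all_eq_true.mp hR r hr
  simp only [Bool.and_eq_true, beq_iff_eq] at h
  obtain ⟨⟨h1, h2⟩, h3⟩ := h
  have e := ofFn_ofL h1
  have hrr : form (ofL δ r) (ofL δ r) = -2 := by rw [← formL_ofFn, e, h2]
  have hK : form (ofL δ r) (canon δ) = 0 := by rw [← formL_ofFn, e, canonL_eq, h3]
  refine ⟨refl _ hrr, isWeyl_refl _ hrr hK, fun x hx => ?_, fun x => ?_⟩
  · rw [refl_apply, ← formL_ofFn, e, hx r hr, zero_smul, add_zero]
  · rw [refl_apply, reflL, ← addMul_ofFn, ← formL_ofFn, e]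

lemma exists_app {δ : ℕ} {R : List V} (hR : rootsOK δ R = true) :
    ∀ ws : List V, (∀ r ∈ ws, r ∈ R) → ∃ g : DP δ ≃ₗ[ℤ] DP δ, IsWeyl g ∧ Fixes g R ∧
      ∀ x, List.ofFn (g x) = app ws (List.ofFn x)
  | [], _ => ⟨LinearEquiv.refl ℤ _, isWeyl_one δ, fun _ _ => rfl, fun _ => rfl⟩
  | r :: ws, hws => by
      obtain ⟨g, hg, hgf, hga⟩ := refl_root hR (hws r List.mem_cons_self)
      obtain ⟨h, hh, hhf, hha⟩ := exists_app hR ws fun x hx => hws x (List.mem_cons_of_mem r hx)
      refine ⟨g.trans h, IsWeyl.trans hg hh, fun x hx => ?_, fun x => ?_⟩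
      · simp [hgf x hx, hhf x hx]
      · simp only [LinearEquiv.trans_apply, hha, hga, app, List.foldl_cons]

/-- Linear functional used as a rank function. -/
def rho (δ : ℕ) : V := -5 :: (List.range δ).map fun i : ℕ => -((i : ℤ) + 1)

/-- Every element of `C` is a representative or descends by some root of `R`. -/
def descOK (δ : ℕ) (C R reps : List V) : Bool :=
  C.all fun w => decide (0 ≤ formL (rho δ) w + 1000) &&
    (reps.contains w || R.any fun r => decide (formL r w < 0) &&
      decide (formL (rho δ) (reflL r w) < formL (rho δ) w))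

lemma descend {δ : ℕ} {C R reps : List V} (P : DP δ → Prop)
    (hP : ∀ (g : DP δ ≃ₗ[ℤ] DP δ) (v : DP δ), IsWeyl g → P v → P (g v))
    (hC : ∀ v, P v → List.ofFn v ∈ C) (hR : rootsOK δ R = true)
    (hd : descOK δ C R reps = true) (v : DP δ) (hv : P v) :
    ∃ g : DP δ ≃ₗ[ℤ] DP δ, IsWeyl g ∧ Fixes g R ∧ List.ofFn (g v) ∈ reps := by
  suffices ∀ (n : ℕ) (v : DP δ), P v → formL (rho δ) (List.ofFn v) + 1000 < n →
      ∃ g : DP δ ≃ₗ[ℤ] DP δ, IsWeyl g ∧ Fixes g R ∧ List.ofFn (g v) ∈ reps from
    this ((formL (rho δ) (List.ofFn v) + 1000).toNat + 1) v hv (by omega)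
  intro n
  induction n with
  | zero =>
      intro v hv hn
      have h := List.all_eq_true.mp hd _ (hC v hv)
      simp only [Bool.and_eq_true, decide_eq_true_eq] at h
      omega
  | succ n ih =>
      intro v hv hn
      have h := List.all_eq_true.mp hd _ (hC v hv)
      simp only [Bool.and_eq_true, Bool.or_eq_true, decide_eq_true_eq, List.any_eq_true,
        List.contains_iff_mem] at h
      rcases h.2 with h2 | ⟨r, hr, _, hlt⟩
      · exact ⟨LinearEquiv.refl ℤ _, isWeyl_one δ, fun _ _ => rfl, h2⟩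
      · obtain ⟨g, hg, hgf, hga⟩ := refl_root hR hr
        obtain ⟨g', hg', hgf', hga'⟩ := ih (g v) (hP g v hg hv) (by rw [hga]; omega)
        exact ⟨g.trans g', IsWeyl.trans hg hg', fun x hx => by simp [hgf x hx, hgf' x hx],
          by simpa using hga'⟩

/-! ### Enumeration of the classes -/

def cands (q : ℤ) : List ℤ :=
  ((List.range 25).map fun i : ℕ => (i : ℤ) - 12).filter fun b => decide (b * b ≤ q)

/-- All lists of length `n` with sum `s` and sum of squares `q` (for `q < 169`). -/
def sols : ℕ → ℤ → ℤ → List V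
  | 0, s, q => if s = 0 ∧ q = 0 then [[]] else []
  | n + 1, s, q =>
      if q < 0 ∨ ((n + 1 : ℕ) : ℤ) * q < s * s then []
      else (cands q).flatMap fun b => (sols n (s - b) (q - b * b)).map (b :: ·)

lemma mem_sols : ∀ {n : ℕ} (b : Fin n → ℤ) (s q : ℤ), ∑ i, b i = s → ∑ i, b i ^ 2 = q →
    q < 169 → List.ofFn b ∈ sols n s q
  | 0, b, s, q, hs, hq, _ => by simp at hs hq; simp [sols, ← hs, ← hq]
  | n + 1, b, s, q, hs, hq, hlt => by
      have hq0 : 0 ≤ q := hq ▸ Finset.sum_nonneg fun i _ => sq_nonneg _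
      have hcs : s * s ≤ ((n + 1 : ℕ) : ℤ) * q := by
        have := sq_sum_le_card_mul_sum_sq (s := (Finset.univ : Finset (Fin (n + 1)))) (f := b)
        rw [hs, hq] at this
        simpa [pow_two] using this
      rw [sols, if_neg (by omega), List.ofFn_succ]
      simp only [Fin.sum_univ_succ] at hs hq
      have h0 : b 0 * b 0 ≤ q := by
        have : 0 ≤ ∑ i : Fin n, b i.succ ^ 2 := Finset.sum_nonneg fun i _ => sq_nonneg _
        nlinarith
      refine List.mem_flatMap.mpr ⟨b 0, ?_, List.mem_map.mpr ⟨_, mem_sols (fun i => b i.succ)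
        _ _ (by linarith) (by linarith) (by nlinarith), rfl⟩⟩
      rw [cands, List.mem_filter]
      refine ⟨List.mem_map.mpr ⟨(b 0 + 12).toNat, ?_, ?_⟩, by simpa using h0⟩
      · rw [List.mem_range]
        have : b 0 ≤ 12 := by nlinarith
        omega
      · have : -12 ≤ b 0 := by nlinarith
        omega

lemma nodup_sols : ∀ (n : ℕ) (s q : ℤ), (sols n s q).Nodup
  | 0, s, q => by rw [sols]; split <;> simp
  | n + 1, s, q => by
      rw [sols]
      split
      · simp
      · refine List.nodup_flatMap.mpr ⟨fun b _ => (nodup_sols n _ _).map (List.cons_injective), ?_⟩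
        have hc : (cands q).Nodup :=
          (List.nodup_range.map (fun a b h => by simpa using h)).filter _
        refine hc.imp fun {a b} hab => ?_
        intro x hxa hxb
        simp only [List.mem_map] at hxa hxb
        obtain ⟨y, -, rfl⟩ := hxa
        obtain ⟨z, -, hz⟩ := hxb
        exact hab (List.cons.inj hz).1.symm

def conicL (δ : ℕ) : List V :=
  (List.range 12).flatMap fun a : ℕ => (sols δ (3 * (a : ℤ) - 2) (a * a)).map ((a : ℤ) :: ·)

def excL (δ : ℕ) : List V :=
  (List.range 9).flatMap fun k : ℕ =>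
    (sols δ (3 * ((k : ℤ) - 1) - 1) (((k : ℤ) - 1) * ((k : ℤ) - 1) + 1)).map (((k : ℤ) - 1) :: ·)

lemma form_canon {δ : ℕ} (v : DP δ) : form (canon δ) v = -3 * v 0 + ∑ i : Fin δ, v i.succ := by
  simp [form, canon]

lemma mem_conicL {δ : ℕ} (hδ : δ ≤ 8) {v : DP δ} (hv : IsConic v) :
    List.ofFn v ∈ conicL δ := by
  obtain ⟨h1, h2⟩ := hv
  rw [form_canon] at h2
  simp only [form, ← pow_two] at h1
  have hcs := sq_sum_le_card_mul_sum_sq (s := (Finset.univ : Finset (Fin δ))) (f := fun i => v i.succ)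
  simp only [Finset.card_univ, Fintype.card_fin] at hcs
  have h8 : ((δ : ℤ)) ≤ 8 := by exact_mod_cast hδ
  have hq : 0 ≤ ∑ i : Fin δ, v i.succ ^ 2 := Finset.sum_nonneg fun i _ => sq_nonneg _
  have hpos : 1 ≤ v 0 := by nlinarith
  have hle : v 0 ≤ 11 := by nlinarith
  refine List.mem_flatMap.mpr ⟨(v 0).toNat, List.mem_range.mpr (by omega),
    List.mem_map.mpr ⟨List.ofFn fun i : Fin δ => v i.succ, ?_, ?_⟩⟩
  · rw [Int.toNat_of_nonneg (by omega)]
    exact mem_sols _ _ _ (by linarith) (by nlinarith) (by nlinarith)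
  · rw [Int.toNat_of_nonneg (by omega), List.ofFn_succ]

lemma mem_excL {δ : ℕ} (hδ : δ ≤ 8) {v : DP δ} (hv : IsExc v) :
    List.ofFn v ∈ excL δ := by
  obtain ⟨h1, h2⟩ := hv
  rw [form_canon] at h2
  simp only [form, ← pow_two] at h1
  have hcs := sq_sum_le_card_mul_sum_sq (s := (Finset.univ : Finset (Fin δ))) (f := fun i => v i.succ)
  simp only [Finset.card_univ, Fintype.card_fin] at hcs
  have h8 : ((δ : ℤ)) ≤ 8 := by exact_mod_cast hδ
  have hq : 0 ≤ ∑ i : Fin δ, v i.succ ^ 2 := Finset.sum_nonneg fun i _ => sq_nonneg _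
  have hpos : -1 ≤ v 0 := by nlinarith
  have hle : v 0 ≤ 7 := by nlinarith
  refine List.mem_flatMap.mpr ⟨(v 0 + 1).toNat, List.mem_range.mpr (by omega),
    List.mem_map.mpr ⟨List.ofFn fun i : Fin δ => v i.succ, ?_, ?_⟩⟩
  · rw [Int.toNat_of_nonneg (by omega)]
    exact mem_sols _ _ _ (by linarith) (by nlinarith) (by nlinarith)
  · rw [Int.toNat_of_nonneg (by omega), List.ofFn_succ]
    congr 1
    omega

/-- The simple roots. -/
def roots (δ : ℕ) : List V :=
  (if 3 ≤ δ then [[1, 1, 1, 1] ++ List.replicate (δ - 3) 0] else []) ++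
    (List.range (δ - 1)).map fun i =>
      0 :: (List.replicate i 0 ++ [-1, 1] ++ List.replicate (δ - 2 - i) 0)

def perp (R : List V) (p : V) : List V := R.filter fun r => formL r p == 0

lemma fixes_perp {δ : ℕ} {R : List V} {g : DP δ ≃ₗ[ℤ] DP δ} {x : DP δ}
    (h : Fixes g (perp R (List.ofFn x))) : g x = x :=
  h x fun r hr => by simpa [perp] using (List.mem_filter.mp hr).2

end Groth.Agent.DPLat
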