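import Groth.Agent.DPLat.Basic
import Mathlib.Data.Fin.Tuple.Sort
import Mathlib.Data.Fintype.Fin

/-! Orbits of conic classes and pairs of conic classes. -/

set_option autoImplicit false

namespace Groth.Agent.DPLat

open W4c3severiratdp

/-- `ℓ - e_1`. -/
def p0 (δ : ℕ) : V := 1 :: 1 :: List.replicate (δ - 1) 0

/-- Representatives of the second conic. -/
def reps2 (δ : ℕ) : List V :=
  ([[1, 0, 1, 0, 0, 0, 0, 0, 0], [1, 1, 0, 0, 0, 0, 0, 0, 0], [2, 0, 1, 1, 1, 1, 0, 0, 0],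
    [3, 0, 2, 1, 1, 1, 1, 1, 0], [4, 0, 2, 2, 2, 1, 1, 1, 1], [5, 1, 2, 2, 2, 2, 2, 2, 0],
    [5, 0, 2, 2, 2, 2, 2, 2, 1], [7, 1, 3, 3, 3, 3, 2, 2, 2], [8, 1, 3, 3, 3, 3, 3, 3, 3],
    [11, 3, 4, 4, 4, 4, 4, 4, 4]] : List V).filterMap fun w =>
      if (w.drop (δ + 1)).all (· == 0) then some (w.take (δ + 1)) else none

set_option maxRecDepth 100000 in
lemma checks (δ : ℕ) (h2 : 2 ≤ δ) (h8 : δ ≤ 8) :
    rootsOK δ (roots δ) = true ∧ descOK δ (conicL δ) (roots δ) [p0 δ] = true ∧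
      rootsOK δ (perp (roots δ) (p0 δ)) = true ∧
      descOK δ (conicL δ) (perp (roots δ) (p0 δ)) (reps2 δ) = true ∧
      (∀ a ∈ reps2 δ, ∀ b ∈ reps2 δ, formL (p0 δ) a = formL (p0 δ) b → a = b ∨
        (δ = 8 ∧ formL (p0 δ) a = 4)) := by
  interval_cases δ <;> decide +kernel

/-- Normal form of an ordered pair of conics. -/
lemma pair_normal {δ : ℕ} (h2 : 2 ≤ δ) (h8 : δ ≤ 8) {v₁ v₂ : DP δ} (h₁ : IsConic v₁)
    (h₂ : IsConic v₂) :
    ∃ g : DP δ ≃ₗ[ℤ] DP δ, IsWeyl g ∧ List.ofFn (g v₁) = p0 δ ∧ List.ofFn (g v₂) ∈ reps2 δ ∧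
      formL (p0 δ) (List.ofFn (g v₂)) = form v₁ v₂ := by
  obtain ⟨hR, hd, hR', hd', -⟩ := checks δ h2 h8
  obtain ⟨g, hg, -, hg₁⟩ := descend IsConic (fun g v hg hv => IsWeyl.isConic hg hv)
    (fun v hv => mem_conicL h8 hv) hR hd v₁ h₁
  rw [List.mem_singleton] at hg₁
  obtain ⟨g', hg', hgf', hg₂⟩ := descend IsConic (fun g v hg hv => IsWeyl.isConic hg hv)
    (fun v hv => mem_conicL h8 hv) hR' hd' (g v₂) (IsWeyl.isConic hg h₂)
  have hfix : g' (g v₁) = g v₁ := fixes_perp (by rw [hg₁]; exact hgf')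
  refine ⟨g.trans g', IsWeyl.trans hg hg', by simpa [hfix] using hg₁, by simpa using hg₂, ?_⟩
  rw [← hg₁, formL_ofFn, LinearEquiv.trans_apply]
  calc form (g v₁) (g' (g v₂)) = form (g' (g v₁)) (g' (g v₂)) := by rw [hfix]
    _ = form v₁ v₂ := by rw [hg'.1, hg.1]

theorem conic_pairs (δ : ℕ) (h2 : 2 ≤ δ) (h8 : δ ≤ 8)
    (v₁ v₂ w₁ w₂ : DP δ) (hv₁ : IsConic v₁) (hv₂ : IsConic v₂) (hw₁ : IsConic w₁)
    (hw₂ : IsConic w₂) (heq : form v₁ v₂ = form w₁ w₂)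
    (hexc : ¬ (δ = 8 ∧ form v₁ v₂ = 4)) :
    ∃ g : DP δ ≃ₗ[ℤ] DP δ, IsWeyl g ∧ g v₁ = w₁ ∧ g v₂ = w₂ := by
  obtain ⟨g, hg, hg₁, hg₂, hgf⟩ := pair_normal h2 h8 hv₁ hv₂
  obtain ⟨k, hk, hk₁, hk₂, hkf⟩ := pair_normal h2 h8 hw₁ hw₂
  rcases (checks δ h2 h8).2.2.2.2 _ hg₂ _ hk₂ (by rw [hgf, hkf, heq]) with e | e
  · exact ⟨g.trans k.symm, IsWeyl.trans hg (IsWeyl.symm hk),
      by simp [List.ofFn_injective (hg₁.trans hk₁.symm)], by simp [List.ofFn_injective e]⟩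
  · rw [hgf] at e
    exact absurd e hexc

def table : List V :=
  [[1, 1, 0, 0, 0, 0, 0, 0, 0], [2, 1, 1, 1, 1, 0, 0, 0, 0], [3, 2, 1, 1, 1, 1, 1, 0, 0],
    [4, 2, 2, 2, 1, 1, 1, 1, 0], [4, 3, 1, 1, 1, 1, 1, 1, 1], [5, 2, 2, 2, 2, 2, 2, 1, 0],
    [5, 3, 2, 2, 2, 1, 1, 1, 1], [6, 3, 3, 2, 2, 2, 2, 1, 1], [7, 3, 3, 3, 3, 2, 2, 2, 1],
    [7, 4, 3, 2, 2, 2, 2, 2, 2], [8, 4, 3, 3, 3, 3, 2, 2, 2], [8, 3, 3, 3, 3, 3, 3, 3, 1],
    [9, 4, 4, 3, 3, 3, 3, 3, 2], [10, 4, 4, 4, 4, 3, 3, 3, 3], [11, 4, 4, 4, 4, 4, 4, 4, 3]]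

def noAscent : V → Bool
  | a :: b :: l => decide (b ≤ a) && noAscent (b :: l)
  | _ => true

lemma noAscent_ofFn : ∀ {n : ℕ} (b : Fin n → ℤ), Antitone b → noAscent (List.ofFn b) = true
  | 0, b, _ => by simp [noAscent]
  | 1, b, _ => by simp [noAscent]
  | n + 2, b, h => by
      have := noAscent_ofFn (fun i : Fin (n + 1) => b i.succ) fun i j hij => h (Fin.succ_le_succ_iff.mpr hij)
      rw [List.ofFn_succ] at this
      rw [List.ofFn_succ, List.ofFn_succ, noAscent, this, Bool.and_true, decide_eq_true_eq]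
      exact h (Fin.zero_le _)

set_option maxRecDepth 100000 in
lemma table_check : ((conicL 8).filter fun w => noAscent w.tail).all table.contains = true := by
  decide +kernel

set_option maxRecDepth 100000 in
lemma table_ok : table.all (fun w => w.length == 9 && formL w w == 0 &&
    formL (canonL 8) w == -2) = true := by
  decide +kernel

theorem conic_table (v : DP 8) :
    IsConic v ↔ ∃ t : DP 8, List.ofFn t ∈ table ∧
      ∃ σ : Equiv.Perm (Fin 8), v 0 = t 0 ∧ ∀ i : Fin 8, v (σ i).succ = t i.succ := by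
  have key : ∀ (w : DP 8) (σ : Equiv.Perm (Fin 8)) (u : DP 8), w 0 = u 0 →
      (∀ i : Fin 8, w (σ i).succ = u i.succ) → (IsConic w ↔ IsConic u) := by
    intro w σ u h0 h
    simp only [IsConic, form_canon]
    simp only [form, h0]
    rw [← Equiv.sum_comp σ (fun i => w i.succ * w i.succ), ← Equiv.sum_comp σ (fun i => w i.succ)]
    simp only [h]
  constructor
  · intro hv
    let f : Fin 8 → ℤ := fun i => -v i.succ
    let t : DP 8 := Fin.cases (v 0) fun i => v (Tuple.sort f i).succ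
    have hσ : ∀ i : Fin 8, v (Tuple.sort f i).succ = t i.succ := fun i => by simp [t]
    have ht : IsConic t := (key v _ t (by simp [t]) hσ).mp hv
    refine ⟨t, ?_, Tuple.sort f, by simp [t], hσ⟩
    have := List.all_eq_true.mp table_check (List.ofFn t)
    rw [List.mem_filter, List.contains_iff_mem] at this
    refine this ⟨mem_conicL le_rfl ht, ?_⟩
    rw [List.ofFn_succ, List.tail_cons]
    refine noAscent_ofFn _ fun i j hij => ?_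
    simpa [t, f] using Tuple.monotone_sort f hij
  · rintro ⟨t, ht, σ, h0, h⟩
    have h' := List.all_eq_true.mp table_ok _ ht
    simp only [Bool.and_eq_true, beq_iff_eq] at h'
    rw [key v σ t h0 h]
    exact ⟨by rw [← formL_ofFn]; exact h'.1.2, by rw [← formL_ofFn, canonL_eq]; exact h'.2⟩

def even? (a b : V) : Bool := (List.zipWith (· + ·) a b).all fun x => x % 2 == 0

set_option maxRecDepth 100000 in
lemma checks8 : ∀ a ∈ reps2 8, formL (p0 8) a = 4 →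
    a = [4, 0, 2, 2, 2, 1, 1, 1, 1] ∨ a = [5, 1, 2, 2, 2, 2, 2, 2, 0] := by
  decide +kernel

theorem conic_pairs_four :
    ∃ p₁ p₂ q₁ q₂ : DP 8, IsConic p₁ ∧ IsConic p₂ ∧ IsConic q₁ ∧ IsConic q₂ ∧
      form p₁ p₂ = 4 ∧ form q₁ q₂ = 4 ∧
      (¬ ∃ g : DP 8 ≃ₗ[ℤ] DP 8, IsWeyl g ∧ g p₁ = q₁ ∧ g p₂ = q₂) ∧
      ∀ v₁ v₂ : DP 8, IsConic v₁ → IsConic v₂ → form v₁ v₂ = 4 →
        ∃ g : DP 8 ≃ₗ[ℤ] DP 8, IsWeyl g ∧ ((g v₁ = p₁ ∧ g v₂ = p₂) ∨ (g v₁ = q₁ ∧ g v₂ = q₂)) := by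
  refine ⟨![1, 1, 0, 0, 0, 0, 0, 0, 0], ![4, 0, 2, 2, 2, 1, 1, 1, 1],
    ![1, 1, 0, 0, 0, 0, 0, 0, 0], ![5, 1, 2, 2, 2, 2, 2, 2, 0],
    ⟨by decide +kernel, by decide +kernel⟩, ⟨by decide +kernel, by decide +kernel⟩,
    ⟨by decide +kernel, by decide +kernel⟩, ⟨by decide +kernel, by decide +kernel⟩,
    by decide +kernel, by decide +kernel, ?_, ?_⟩
  · rintro ⟨g, -, h₁, h₂⟩
    have hs : (![1, 1, 0, 0, 0, 0, 0, 0, 0] : DP 8) + ![5, 1, 2, 2, 2, 2, 2, 2, 0] =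
        (2 : ℤ) • ![3, 1, 1, 1, 1, 1, 1, 1, 0] := by decide +kernel
    rw [← h₁, ← h₂, ← map_add] at hs
    have := congrArg g.symm hs
    rw [g.symm_apply_apply, map_smul] at this
    have := congrFun this 0
    simp at this
    omega
  · intro v₁ v₂ h₁ h₂ h
    obtain ⟨g, hg, hg₁, hg₂, hgf⟩ := pair_normal (by norm_num) le_rfl h₁ h₂
    have e₁ : g v₁ = ![1, 1, 0, 0, 0, 0, 0, 0, 0] := List.ofFn_injective (hg₁.trans (by decide +kernel))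
    rcases checks8 _ hg₂ (hgf.trans h) with e | e
    · exact ⟨g, hg, .inl ⟨e₁, List.ofFn_injective (e.trans (by decide +kernel))⟩⟩
    · exact ⟨g, hg, .inr ⟨e₁, List.ofFn_injective (e.trans (by decide +kernel))⟩⟩

end Groth.Agent.DPLat
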