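import Groth.Agent.DPLat.Basic
import Mathlib.Data.Fintype.Perm
import Mathlib.GroupTheory.Perm.Fin
import Mathlib.Tactic.Abel

/-! Orbits of exceptional classes, and of triples of exceptional classes. -/

set_option autoImplicit false

namespace Groth.Agent.DPLat

open W4c3severiratdp

/-- `e_8`. -/
def pE : V := [0, 0, 0, 0, 0, 0, 0, 0, -1]

def repsE : List V :=
  [pE, [0, 0, 0, 0, 0, 0, 0, -1, 0], [1, 1, 0, 0, 0, 0, 0, 0, 1], [3, 1, 1, 1, 1, 1, 1, 0, 2],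
    [6, 2, 2, 2, 2, 2, 2, 2, 3]]

def R7 : List V := perp (roots 8) pE

set_option maxRecDepth 100000 in
lemma checksE :
    rootsOK 8 (roots 8) = true ∧ descOK 8 (excL 8) (roots 8) [pE] = true ∧
      rootsOK 8 R7 = true ∧ descOK 8 (excL 8) R7 repsE = true ∧
      (∀ a ∈ repsE, ∀ b ∈ repsE, formL a pE = formL b pE → a = b) := by
  decide +kernel

lemma exc_to_pE {L : DP 8} (hL : IsExc L) :
    ∃ g : DP 8 ≃ₗ[ℤ] DP 8, IsWeyl g ∧ List.ofFn (g L) = pE := by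
  obtain ⟨g, hg, -, h⟩ := descend IsExc (fun g v hg hv => IsWeyl.isExc hg hv)
    (fun v hv => mem_excL le_rfl hv) checksE.1 checksE.2.1 L hL
  exact ⟨g, hg, List.mem_singleton.mp h⟩

lemma exc_second {p v : DP 8} (hp : List.ofFn p = pE) (hv : IsExc v) :
    ∃ g : DP 8 ≃ₗ[ℤ] DP 8, IsWeyl g ∧ g p = p ∧ List.ofFn (g v) ∈ repsE := by
  obtain ⟨g, hg, hgf, h⟩ := descend IsExc (fun g v hg hv => IsWeyl.isExc hg hv)
    (fun v hv => mem_excL le_rfl hv) checksE.2.2.1 checksE.2.2.2.1 v hv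
  exact ⟨g, hg, fixes_perp (by rw [hp]; exact hgf), h⟩

theorem exc_pairs (L L₁ L₂ : DP 8) (hL : IsExc L) (hL₁ : IsExc L₁)
    (hL₂ : IsExc L₂) (h : form L₁ L = form L₂ L) :
    ∃ g : DP 8 ≃ₗ[ℤ] DP 8, IsWeyl g ∧ g L = L ∧ g L₁ = L₂ := by
  obtain ⟨g, hg, hgL⟩ := exc_to_pE hL
  obtain ⟨a, ha, hap, ha₁⟩ := exc_second hgL (IsWeyl.isExc hg hL₁)
  obtain ⟨b, hb, hbp, hb₁⟩ := exc_second hgL (IsWeyl.isExc hg hL₂)
  have e := checksE.2.2.2.2 _ ha₁ _ hb₁ (by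
    rw [← hgL, formL_ofFn, formL_ofFn]
    calc form (a (g L₁)) (g L) = form (a (g L₁)) (a (g L)) := by rw [hap]
      _ = form L₁ L := by rw [ha.1, hg.1]
      _ = form L₂ L := h
      _ = form (b (g L₂)) (b (g L)) := by rw [hb.1, hg.1]
      _ = form (b (g L₂)) (g L) := by rw [hbp])
  have hbp' : b.symm (g L) = g L := b.injective (by rw [b.apply_symm_apply, hbp])
  exact ⟨((g.trans a).trans b.symm).trans g.symm,
    IsWeyl.trans (IsWeyl.trans (IsWeyl.trans hg ha) (IsWeyl.symm hb)) (IsWeyl.symm hg),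
    by simp [hap, hbp'], by simp [List.ofFn_injective e]⟩

/-! ### Triples -/

/-- For each representative of a first class, representatives of a second class. -/
def repsS : List (V × List V) :=
  [([0, 0, 0, 0, 0, 0, 0, -1, 0],
      [[0, 0, 0, 0, 0, 0, -1, 0, 0], [0, 0, 0, 0, 0, 0, 0, -1, 0], [0, 0, 0, 0, 0, 0, 0, 0, -1], [1, 0, 0, 0, 0, 0, 0, 1, 1], [1, 1, 0, 0, 0, 0, 0, 0, 1], [1, 1, 0, 0, 0, 0, 0, 1, 0], [3, 1, 1, 1, 1, 1, 0, 1, 2], [3, 1, 1, 1, 1, 1, 0, 2, 1], [3, 1, 1, 1, 1, 1, 1, 0, 2], [3, 1, 1, 1, 1, 1, 1, 2, 0], [4, 2, 1, 1, 1, 1, 1, 2, 2], [6, 2, 2, 2, 2, 2, 2, 2, 3], [6, 2, 2, 2, 2, 2, 2, 3, 2]]),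
    ([0, 0, 0, 0, 0, 0, 0, 0, -1],
      [[0, 0, 0, 0, 0, 0, 0, -1, 0], [0, 0, 0, 0, 0, 0, 0, 0, -1], [1, 1, 0, 0, 0, 0, 0, 0, 1], [3, 1, 1, 1, 1, 1, 1, 0, 2], [6, 2, 2, 2, 2, 2, 2, 2, 3]]),
    ([1, 1, 0, 0, 0, 0, 0, 0, 1],
      [[0, -1, 0, 0, 0, 0, 0, 0, 0], [0, 0, 0, 0, 0, 0, 0, -1, 0], [0, 0, 0, 0, 0, 0, 0, 0, -1], [1, 0, 1, 0, 0, 0, 0, 0, 1], [1, 1, 0, 0, 0, 0, 0, 0, 1], [2, 0, 1, 1, 1, 1, 0, 0, 1], [2, 0, 1, 1, 1, 1, 1, 0, 0], [3, 0, 1, 1, 1, 1, 1, 1, 2], [3, 0, 2, 1, 1, 1, 1, 1, 1], [3, 1, 1, 1, 1, 1, 1, 0, 2], [5, 1, 2, 2, 2, 2, 2, 1, 2], [5, 1, 2, 2, 2, 2, 2, 2, 1], [6, 2, 2, 2, 2, 2, 2, 2, 3]]),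
    ([3, 1, 1, 1, 1, 1, 1, 0, 2],
      [[0, 0, 0, 0, 0, 0, -1, 0, 0], [0, 0, 0, 0, 0, 0, 0, -1, 0], [0, 0, 0, 0, 0, 0, 0, 0, -1], [1, 0, 0, 0, 0, 0, 0, 1, 1], [1, 1, 0, 0, 0, 0, 0, 0, 1], [1, 1, 0, 0, 0, 0, 0, 1, 0], [3, 1, 1, 1, 1, 1, 0, 1, 2], [3, 1, 1, 1, 1, 1, 0, 2, 1], [3, 1, 1, 1, 1, 1, 1, 0, 2], [3, 1, 1, 1, 1, 1, 1, 2, 0], [4, 2, 1, 1, 1, 1, 1, 2, 2], [6, 2, 2, 2, 2, 2, 2, 2, 3], [6, 2, 2, 2, 2, 2, 2, 3, 2]]),
    ([6, 2, 2, 2, 2, 2, 2, 2, 3],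
      [[0, 0, 0, 0, 0, 0, 0, -1, 0], [0, 0, 0, 0, 0, 0, 0, 0, -1], [1, 1, 0, 0, 0, 0, 0, 0, 1], [3, 1, 1, 1, 1, 1, 1, 0, 2], [6, 2, 2, 2, 2, 2, 2, 2, 3]])]

/-- Normal forms of ordered triples with sum `targetE`. -/
def NF : List (V × V × V) :=
  [([0, 0, 0, 0, 0, 0, 0, -1, 0], [0, 0, 0, 0, 0, 0, 0, 0, -1], [6, 2, 2, 2, 2, 2, 2, 3, 2]),
    ([0, 0, 0, 0, 0, 0, 0, -1, 0], [1, 1, 0, 0, 0, 0, 0, 1, 0], [5, 1, 2, 2, 2, 2, 2, 2, 1]),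
    ([0, 0, 0, 0, 0, 0, 0, -1, 0], [3, 1, 1, 1, 1, 1, 0, 2, 1], [3, 1, 1, 1, 1, 1, 2, 1, 0]),
    ([0, 0, 0, 0, 0, 0, 0, -1, 0], [6, 2, 2, 2, 2, 2, 2, 3, 2], [0, 0, 0, 0, 0, 0, 0, 0, -1]),
    ([0, 0, 0, 0, 0, 0, 0, 0, -1], [0, 0, 0, 0, 0, 0, 0, -1, 0], [6, 2, 2, 2, 2, 2, 2, 3, 2]),
    ([0, 0, 0, 0, 0, 0, 0, 0, -1], [0, 0, 0, 0, 0, 0, 0, 0, -1], [6, 2, 2, 2, 2, 2, 2, 2, 3]),
    ([0, 0, 0, 0, 0, 0, 0, 0, -1], [1, 1, 0, 0, 0, 0, 0, 0, 1], [5, 1, 2, 2, 2, 2, 2, 2, 1]),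
    ([0, 0, 0, 0, 0, 0, 0, 0, -1], [3, 1, 1, 1, 1, 1, 1, 0, 2], [3, 1, 1, 1, 1, 1, 1, 2, 0]),
    ([0, 0, 0, 0, 0, 0, 0, 0, -1], [6, 2, 2, 2, 2, 2, 2, 2, 3], [0, 0, 0, 0, 0, 0, 0, 0, -1]),
    ([1, 1, 0, 0, 0, 0, 0, 0, 1], [0, 0, 0, 0, 0, 0, 0, 0, -1], [5, 1, 2, 2, 2, 2, 2, 2, 1]),
    ([1, 1, 0, 0, 0, 0, 0, 0, 1], [2, 0, 1, 1, 1, 1, 1, 0, 0], [3, 1, 1, 1, 1, 1, 1, 2, 0]),
    ([1, 1, 0, 0, 0, 0, 0, 0, 1], [5, 1, 2, 2, 2, 2, 2, 2, 1], [0, 0, 0, 0, 0, 0, 0, 0, -1]),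
    ([3, 1, 1, 1, 1, 1, 1, 0, 2], [0, 0, 0, 0, 0, 0, 0, 0, -1], [3, 1, 1, 1, 1, 1, 1, 2, 0]),
    ([3, 1, 1, 1, 1, 1, 1, 0, 2], [3, 1, 1, 1, 1, 1, 1, 2, 0], [0, 0, 0, 0, 0, 0, 0, 0, -1]),
    ([6, 2, 2, 2, 2, 2, 2, 2, 3], [0, 0, 0, 0, 0, 0, 0, 0, -1], [0, 0, 0, 0, 0, 0, 0, 0, -1])]

def R3 : List (V × V × V) :=
  [([0, 0, 0, 0, 0, 0, 0, -1, 0], [0, 0, 0, 0, 0, 0, 0, 0, -1], [6, 2, 2, 2, 2, 2, 2, 3, 2]),
    ([0, 0, 0, 0, 0, 0, 0, -1, 0], [1, 1, 0, 0, 0, 0, 0, 1, 0], [5, 1, 2, 2, 2, 2, 2, 2, 1]),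
    ([0, 0, 0, 0, 0, 0, 0, 0, -1], [0, 0, 0, 0, 0, 0, 0, 0, -1], [6, 2, 2, 2, 2, 2, 2, 2, 3]),
    ([0, 0, 0, 0, 0, 0, 0, 0, -1], [1, 1, 0, 0, 0, 0, 0, 0, 1], [5, 1, 2, 2, 2, 2, 2, 2, 1])]

def targetE : V := [6, 2, 2, 2, 2, 2, 2, 2, 1]

/-- The three intersection numbers with `e_8`. -/
def pat (t : V × V × V) : List ℤ := [formL pE t.1, formL pE t.2.1, formL pE t.2.2]

set_option maxRecDepth 100000 in
lemma checks3 :
    repsE.all (fun q => repsS.any fun e =>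
      e.1 == q && rootsOK 8 (perp R7 q) && descOK 8 (excL 8) (perp R7 q) e.2 &&
        e.2.all fun w =>
          (!(formL (addMul (-1) (addMul (-1) targetE q) w)
              (addMul (-1) (addMul (-1) targetE q) w) == -1) ||
            NF.contains (q, w, addMul (-1) (addMul (-1) targetE q) w))) = true := by
  decide +kernel

set_option maxRecDepth 100000 in
lemma checksNF :
    (∀ a ∈ NF, ∀ c ∈ R3, pat a = pat c → a = c) ∧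
    (∀ a ∈ NF, ∃ σ : Equiv.Perm (Fin 3), ∃ c ∈ R3,
      [(pat a).getD (σ 0).val 0, (pat a).getD (σ 1).val 0, (pat a).getD (σ 2).val 0] = pat c) := by
  decide +kernel

lemma triple_normal {p : DP 8} (hp : List.ofFn p = pE) (x : Fin 3 → DP 8) (hx : ∀ i, IsExc (x i))
    (hsum : x 0 + x 1 + x 2 = ![6, 2, 2, 2, 2, 2, 2, 2, 1]) :
    ∃ g : DP 8 ≃ₗ[ℤ] DP 8, IsWeyl g ∧ g p = p ∧
      (List.ofFn (g (x 0)), List.ofFn (g (x 1)), List.ofFn (g (x 2))) ∈ NF ∧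
      ∀ i, formL pE (List.ofFn (g (x i))) = form p (x i) := by
  obtain ⟨g, hg, hgp, hq⟩ := exc_second hp (hx 0)
  have hc := List.all_eq_true.mp checks3 _ hq
  simp only [List.any_eq_true, Bool.and_eq_true, beq_iff_eq] at hc
  obtain ⟨e, -, ⟨⟨he, hR⟩, hd⟩, hall⟩ := hc
  obtain ⟨h, hh, hhf, hs⟩ := descend IsExc (fun g v hg hv => IsWeyl.isExc hg hv)
    (fun v hv => mem_excL le_rfl hv) hR hd _ (IsWeyl.isExc hg (hx 1))
  have hhx : h (g (x 0)) = g (x 0) := fixes_perp hhf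
  have hhp : h p = p := hhf p fun r hr => by
    have := (List.mem_filter.mp (List.mem_filter.mp hr).1).2
    simpa [hp, -List.ofFn_succ] using this
  refine ⟨g.trans h, IsWeyl.trans hg hh, by simp [hgp, hhp], ?_, fun i => ?_⟩
  · simp only [LinearEquiv.trans_apply]
    have hfix : (g.trans h) ![6, 2, 2, 2, 2, 2, 2, 2, 1] = ![6, 2, 2, 2, 2, 2, 2, 2, 1] := by
      have : (![6, 2, 2, 2, 2, 2, 2, 2, 1] : DP 8) = p - 2 • canon 8 := by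
        rw [show p = ![0, 0, 0, 0, 0, 0, 0, 0, -1] from List.ofFn_injective (hp.trans (by decide +kernel))]
        decide +kernel
      simp only [this, LinearEquiv.trans_apply, map_sub, map_nsmul, hgp, hhp, hg.2, hh.2]
    have hu : h (g (x 2)) =
        ![6, 2, 2, 2, 2, 2, 2, 2, 1] + (-1 : ℤ) • g (x 0) + (-1 : ℤ) • h (g (x 1)) := by
      rw [← hfix, ← hsum]
      simp only [map_add, LinearEquiv.trans_apply, hhx, neg_smul, one_smul]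
      abel
    have hu' : List.ofFn (h (g (x 2))) = addMul (-1)
        (addMul (-1) targetE (List.ofFn (g (x 0)))) (List.ofFn (h (g (x 1)))) := by
      rw [hu, ← addMul_ofFn, ← addMul_ofFn]
      rfl
    have := List.all_eq_true.mp hall _ hs
    rw [← hu', formL_ofFn, (IsWeyl.isExc hh (IsWeyl.isExc hg (hx 2))).1] at this
    simpa [hhx] using this
  · rw [← hp, formL_ofFn, LinearEquiv.trans_apply]
    calc form p (h (g (x i))) = form (h (g p)) (h (g (x i))) := by rw [hgp, hhp]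
      _ = form p (x i) := by rw [hh.1, hg.1]

/-- A symmetric invariant separating the four classes. -/
def inv3 (p : DP 8) (t : Fin 3 → DP 8) : ℤ := ∑ i, form p (t i) ^ 2

theorem exc_triples (L : DP 8) (hL : IsExc L) :
    ∃ r : Fin 4 → (Fin 3 → DP 8),
      (∀ j, (∀ i, IsExc (r j i)) ∧ r j 0 + r j 1 + r j 2 = L - 2 • canon 8) ∧
      (∀ j j', (∃ g : DP 8 ≃ₗ[ℤ] DP 8, IsWeyl g ∧ g L = L ∧
        ∃ σ : Equiv.Perm (Fin 3), ∀ i, g (r j (σ i)) = r j' i) → j = j') ∧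
      ∀ t : Fin 3 → DP 8, (∀ i, IsExc (t i)) → t 0 + t 1 + t 2 = L - 2 • canon 8 →
        ∃ j, ∃ g : DP 8 ≃ₗ[ℤ] DP 8, IsWeyl g ∧ g L = L ∧
          ∃ σ : Equiv.Perm (Fin 3), ∀ i, g (t (σ i)) = r j i := by
  obtain ⟨g₀, hg₀, hp⟩ := exc_to_pE hL
  let b : Fin 4 → Fin 3 → DP 8 :=
    fun j => ![ofL 8 (R3.getD j.val ([], [], [])).1, ofL 8 (R3.getD j.val ([], [], [])).2.1,
      ofL 8 (R3.getD j.val ([], [], [])).2.2]
  have hpe : g₀ L = ![0, 0, 0, 0, 0, 0, 0, 0, -1] := List.ofFn_injective (hp.trans (by decide +kernel))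
  refine ⟨fun j i => g₀.symm (b j i), fun j => ⟨fun i => IsWeyl.isExc (IsWeyl.symm hg₀) ?_, ?_⟩, ?_, ?_⟩
  · fin_cases j <;> fin_cases i <;> exact ⟨by decide +kernel, by decide +kernel⟩
  · apply g₀.injective
    simp only [map_add, LinearEquiv.apply_symm_apply, map_sub, map_nsmul, hpe, hg₀.2]
    fin_cases j <;> decide +kernel
  · rintro j j' ⟨g, hg, hgL, σ, hσ⟩
    have key : inv3 (g₀ L) (b j) = inv3 (g₀ L) (b j') := by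
      rw [inv3, inv3, ← Equiv.sum_comp σ (fun i => form (g₀ L) (b j i) ^ 2)]
      refine Finset.sum_congr rfl fun i _ => ?_
      congr 1
      calc form (g₀ L) (b j (σ i)) = form L (g₀.symm (b j (σ i))) := by
            rw [← hg₀.1 L, LinearEquiv.apply_symm_apply]
        _ = form L (g (g₀.symm (b j (σ i)))) := by
            conv_rhs => rw [← hgL]
            rw [hg.1]
        _ = form (g₀ L) (b j' i) := by
            rw [hσ i, ← hg₀.1 L, LinearEquiv.apply_symm_apply]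
    rw [hpe] at key
    have : ∀ x y : Fin 4, inv3 ![0, 0, 0, 0, 0, 0, 0, 0, -1] (b x) =
        inv3 ![0, 0, 0, 0, 0, 0, 0, 0, -1] (b y) → x = y := by
      decide +kernel
    exact this j j' key
  · intro t ht hsum
    let x : Fin 3 → DP 8 := fun i => g₀ (t i)
    have hx : ∀ i, IsExc (x i) := fun i => IsWeyl.isExc hg₀ (ht i)
    have hsum' : x 0 + x 1 + x 2 = ![6, 2, 2, 2, 2, 2, 2, 2, 1] := by
      simp only [x, ← map_add, hsum, map_sub, map_nsmul, hpe, hg₀.2]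
      decide +kernel
    obtain ⟨g, -, -, hN, hv⟩ := triple_normal hp x hx hsum'
    obtain ⟨σ, c, hcR, hc⟩ := checksNF.2 _ hN
    have hsumσ : x (σ 0) + x (σ 1) + x (σ 2) = ![6, 2, 2, 2, 2, 2, 2, 2, 1] := by
      rw [← hsum']
      simpa [Fin.sum_univ_three] using Equiv.sum_comp σ x
    obtain ⟨k, hk, hkp, hkN, hkv⟩ := triple_normal hp (fun i => x (σ i)) (fun i => hx _) hsumσ
    have hpat : ∀ i, (pat (List.ofFn (g (x 0)), List.ofFn (g (x 1)), List.ofFn (g (x 2)))).getD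
        (i : Fin 3).val 0 = form (g₀ L) (x i) := by
      intro i
      fin_cases i <;> simp [pat, hv, -List.ofFn_succ]
    rw [hpat, hpat, hpat] at hc
    have e := checksNF.1 _ hkN c hcR (by rw [← hc]; simp only [pat, hkv])
    obtain ⟨m, hm, hmR⟩ := List.getElem_of_mem hcR
    refine ⟨⟨m, hm⟩, (g₀.trans k).trans g₀.symm,
      IsWeyl.trans (IsWeyl.trans hg₀ hk) (IsWeyl.symm hg₀), by simp [hkp], σ, fun i => ?_⟩
    have hl : ∀ r ∈ R3, r.1.length = 9 ∧ r.2.1.length = 9 ∧ r.2.2.length = 9 := by decide +kernel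
    obtain ⟨h1, h2, h3⟩ := hl _ (List.getElem_mem hm)
    have hgd : R3.getD m ([], [], []) = R3[m] := by simp [List.getD_eq_getElem?_getD, hm]
    have e' := hmR.trans e.symm
    simp only [LinearEquiv.trans_apply]
    refine congrArg g₀.symm ?_
    have hbm : b ⟨m, hm⟩ = ![ofL 8 R3[m].1, ofL 8 R3[m].2.1, ofL 8 R3[m].2.2] := by
      simp only [b, hgd]
    rw [hbm]
    fin_cases i
    · exact List.ofFn_injective (by
        change _ = List.ofFn (ofL 8 R3[m].1)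
        rw [ofFn_ofL h1, e']; rfl)
    · exact List.ofFn_injective (by
        change _ = List.ofFn (ofL 8 R3[m].2.1)
        rw [ofFn_ofL h2, e']; rfl)
    · exact List.ofFn_injective (by
        change _ = List.ofFn (ofL 8 R3[m].2.2)
        rw [ofFn_ofL h3, e']; rfl)

end Groth.Agent.DPLat
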